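import Cfsg.Agent.H547.RC.M2U
import Cfsg.Agent.H106.RC.Descent

/-!
# S3510, `Sp₄(2^p)`: covers containing a field automorphism of order `p` (fixed field of order two) (helper547)
-/

set_option autoImplicit false
set_option linter.unusedVariables false

namespace Cfsg.Agent.H547.RC

open Cfsg Cfsg.Agent.H106.RC Cfsg.Agent.H385.RC Cfsg.Agent.H380.RC Module

section abs

variable {G Ω ι : Type*} [Group G] [MulAction G Ω] {N : Subgroup G}

/-- `U` of exponent two contains the involution `x i0` and is normalised by the other members of the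
cover; `t ∈ [U, x j]` for all other `j` -/
theorem two_rule_all [Finite ι] [Nonempty Ω] (hE : Env G Ω N) {x : ι → G} {r : ι → ℕ} (hx : PF x r) (hcov : Cov Ω x) {i0 : ι}
    (hi : r i0 = 2) {U : Subgroup G} [Finite U] (hU2 : ∀ u ∈ U, u * u = 1) (hxU : x i0 ∈ U)
    (hU : ∀ i, ∀ u ∈ U, x i * u * (x i)⁻¹ ∈ U) {t : G} (ht : ∀ j, j ≠ i0 → t ∈ cmm U (x j))
    (hfin : x i0 ∈ cmm (N ⊓ Subgroup.centralizer {x i0}) t) : False := by
  have hab : ∀ u ∈ U, ∀ v ∈ U, u * v = v * u := by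
    intro u hu v hv
    have h1 := hU2 _ (U.mul_mem hu hv)
    have h2 := hU2 _ hu
    have h3 := hU2 _ hv
    have h4 : u⁻¹ = u := inv_eq_of_mul_eq_one_left h2
    have h5 : v⁻¹ = v := inv_eq_of_mul_eq_one_left h3
    have h6 : (u * v)⁻¹ = u * v := inv_eq_of_mul_eq_one_left h1
    rw [mul_inv_rev, h4, h5] at h6
    exact h6.symm
  have hodd : ∀ j, j ≠ i0 → r j ≠ 2 := fun j hj h => hj (hx.inj (h.trans hi.symm))
  refine not_cov_one hE (x := t) (y := x i0) (U := N ⊓ Subgroup.centralizer {x i0})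
    (fun ω => ?_) (fun u hu => (Subgroup.mem_centralizer_singleton_iff.1 hu.2)) (hx.ne i0) hfin
  by_cases hω : x i0 • ω = ω
  · exact Or.inl hω
  right
  have h1 : ∃ j : {j // j ≠ i0}, ∀ u ∈ U, x j.1 • u • ω = u • ω := by
    refine cover_loc (x := fun j : {j // j ≠ i0} => x j.1) (r := fun j => r j.1) (fun j => hx.prime _)
      (fun j => hx.pow _) (fun i j => hx.comm _ _) (fun u hu => ?_) (fun j u hu => hU _ u hu)
      (Or.inl ⟨hab, fun i j h1 _ => absurd (coprime_of_sq hU2 (hx.prime i.1) (hodd _ i.2)) h1⟩)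
    obtain ⟨j, hj⟩ := hcov (u • ω)
    refine ⟨⟨j, fun h => hω ?_⟩, hj⟩
    subst h
    rw [← mul_smul, hab _ hxU _ hu, mul_smul] at hj
    exact MulAction.injective u hj
  obtain ⟨⟨j, hj⟩, hjU⟩ := h1
  exact comm_le hjU (ht j hj)

end abs

section geo

variable {F V G : Type*} [Field F] [AddCommGroup V] [Module F V] [Group G] [DistribMulAction G V]
  {B : LinearMap.BilinForm F V} {N : Subgroup G}

/-- semilinear conjugation -/
theorem IsQ.conj_semi (h : Ev B N) {e : V} {g y : G} {w : V} {c : F} {σ : F ≃+* F}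
    (h1 : ∀ (a : F) (v : V), y • a • v = σ a • y • v) (h2 : ∀ u v, B (y • u) (y • v) = σ (B u v)) (hye : y • e = e)
    (hg : IsQ B e g w c) : IsQ B e (y * g * y⁻¹) (y • w) (σ c) := by
  intro z
  have h3 : ∀ a : V, σ (B (y⁻¹ • z) a) = B z (y • a) := fun a => h.form_inv h2 z a
  rw [mul_smul, mul_smul, hg, smul_add, smul_add, h1, h1, smul_inv_smul, map_add, map_mul, h3, h3, hye]

theorem IsM.conj_semi (h : Ev B N) {v v' : V} {g y : G} {a b c : F} {σ : F ≃+* F}
    (h1 : ∀ (a : F) (v : V), y • a • v = σ a • y • v) (h2 : ∀ u v, B (y • u) (y • v) = σ (B u v)) (hv : y • v = v)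
    (hv' : y • v' = v') (hg : IsM B v v' g a b c) : IsM B v v' (y * g * y⁻¹) (σ a) (σ b) (σ c) := by
  intro z
  have h3 : ∀ a : V, σ (B (y⁻¹ • z) a) = B z (y • a) := fun a => h.form_inv h2 z a
  rw [mul_smul, mul_smul, hg, smul_add, smul_add, h1, h1, smul_inv_smul, map_add, map_add, map_mul, map_mul, map_mul,
    map_mul, h3, h3, hv, hv']

/-- commutator of a transvection with a semilinear element -/
theorem tr_comm (h : Ev B N) {y : G} {σ : F ≃+* F} (h1 : ∀ (a : F) (v : V), y • a • v = σ a • y • v)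
    (h2 : ∀ u v, B (y • u) (y • v) = σ (B u v)) {v : V} (hv : y • v = v) (d : F) :
    h.tr v d * y * (h.tr v d)⁻¹ * y⁻¹ = h.tr v d * h.tr v (σ d) := by
  have h3 := h.conj_tr h1 h2 v d
  rw [hv] at h3
  rw [h.tr_inv, ← h3]; group

/-- two elements of the radical commute -/
theorem IsM.comm (h : Ev B N) {v v' : V} (hv : B v v' = 0) {g g' : G} {a b c a' b' c' : F} (hg : g ∈ N) (hg' : g' ∈ N)
    (h1 : IsM B v v' g a b c) (h2 : IsM B v v' g' a' b' c') : g * g' = g' * g := by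
  have h3 := h1.mul h hv hg h2
  have h4 := h2.mul h hv hg' h1
  rw [add_comm a' a, add_comm b' b, add_comm c' c] at h4
  exact h3.eq h h4

/-- **final step, field automorphism** -/
theorem fin3 (h : Ev B N) {y : G} {σ : F ≃+* F}
    (h1 : ∀ (a : F) (v : V), y • a • v = σ a • y • v) (h2 : ∀ u v, B (y • u) (y • v) = σ (B u v)) (hσ : ∃ k, σ k ≠ k)
    {v v' : V} (hv0 : v ≠ 0) (hv : y • v = v) (hv' : y • v' = v') (hvv : B v v' = 0) (hli : ∀ c : F, v' ≠ c • v) {t : G}
    (htN : t ∈ N) (ht : IsM B v v' t 1 0 1) : t ∈ cmm (N ⊓ Subgroup.centralizer {t}) y := by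
  obtain ⟨w', hw1, hw2⟩ := exists_dual2 h hv0 hli
  obtain ⟨k, hk⟩ := hσ
  -- elements `(0, d, 0)`
  have a1 : ∀ d : F, IsM B v v' (h.tr v' d) 0 d 0 := fun d z => by
    rw [h.tr_apply]; simp
  have a2 : ∀ d : F, ∃ g ∈ cmm (N ⊓ Subgroup.centralizer {t}) y, g ∈ N ∧ IsM B v v' g 0 (d + σ d) 0 := by
    intro d
    have h4 := (a1 d).mul h hvv (h.tr_mem _ _) (a1 (σ d))
    rw [add_zero] at h4
    refine ⟨h.tr v' d * y * (h.tr v' d)⁻¹ * y⁻¹, mem_cmm ⟨h.tr_mem _ _, ?_⟩, ?_, ?_⟩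
    · exact Subgroup.mem_centralizer_singleton_iff.2 ((a1 d).comm h hvv (h.tr_mem _ _) htN ht)
    · rw [tr_comm h h1 h2 hv']
      exact N.mul_mem (h.tr_mem _ _) (h.tr_mem _ _)
    · rw [tr_comm h h1 h2 hv']
      exact h4
  have a3 : ∀ d l : F, ∃ g ∈ cmm (N ⊓ Subgroup.centralizer {t}) y, g ∈ N ∧
      IsM B v v' g ((d + σ d) * l ^ 2) 0 ((d + σ d) * l) := by
    intro d l
    obtain ⟨g, hg, hgN, hgM⟩ := a2 d
    have h3 : B v (l • w') = 0 := by rw [map_smul, hw2, smul_zero]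
    have h4 : h.sr h3 • v = v := by rw [h.sr_apply, h.self, h3]; simp
    have h5 : h.sr h3 • v' = v' + l • v := by rw [h.sr_apply, h.symm v' v, hvv, map_smul, hw1]; simp
    have h6 := ht.conj h (h.sr_mem h3) h4 h5
    rw [zero_mul, zero_mul, add_zero] at h6
    have h7 := h6.eq h ht
    rw [mul_inv_eq_iff_eq_mul] at h7
    have h8 := hgM.conj h (h.sr_mem h3) h4 h5
    have h9 := h8.mul h hvv (N.mul_mem (N.mul_mem (h.sr_mem h3) hgN) (N.inv_mem (h.sr_mem h3))) hgM
    rw [zero_add, zero_add, h.add_self, add_zero, add_zero] at h9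
    refine ⟨h.sr h3 * g * (h.sr h3)⁻¹ * g, (cmm _ _).mul_mem (cmm_conj ⟨h.sr_mem h3,
      Subgroup.mem_centralizer_singleton_iff.2 h7⟩ hg) hg,
      N.mul_mem (N.mul_mem (N.mul_mem (h.sr_mem h3) hgN) (N.inv_mem (h.sr_mem h3))) hgN, h9⟩
  have hs : k + σ k ≠ 0 := by
    intro h3
    apply hk
    have h4 := eq_neg_of_add_eq_zero_left h3
    rw [h.neg] at h4
    exact h4.symm
  set s : F := k + σ k with hsdef
  have e2 : k ^ 2 + σ (k ^ 2) = s ^ 2 := by
    rw [hsdef, map_pow]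
    linear_combination (-(k * σ k)) * h.two
  have e4 : k ^ 4 + σ (k ^ 4) = s ^ 4 := by
    have h5 : k ^ 4 + σ (k ^ 4) = (k ^ 2 + σ (k ^ 2)) ^ 2 := by
      rw [map_pow, map_pow]
      linear_combination (-(k ^ 2 * σ k ^ 2)) * h.two
    rw [h5, e2]; ring
  obtain ⟨g1, c1, n1, q1⟩ := a3 (k ^ 2) ((1 + s) / s ^ 2)
  obtain ⟨g2, c2, n2, q2⟩ := a3 (k ^ 4) (s⁻¹ ^ 3)
  rw [e2] at q1
  rw [e4] at q2
  have h3 := q1.mul h hvv n1 q2
  have h4 : s ^ 2 * ((1 + s) / s ^ 2) ^ 2 + s ^ 4 * (s⁻¹ ^ 3) ^ 2 = 1 := by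
    field_simp
    linear_combination (1 + s) * h.two
  have h5 : s ^ 2 * ((1 + s) / s ^ 2) + s ^ 4 * s⁻¹ ^ 3 = 1 := by
    field_simp
    linear_combination s * h.two
  rw [h4, h5, add_zero] at h3
  have h6 := (cmm _ _).mul_mem c1 c2
  rwa [h3.eq h ht] at h6

/-- `y` is a semilinear isometry with fixed field of order two, `b` is a basis fixed by `y` -/
structure D0 (B : LinearMap.BilinForm F V) (N : Subgroup G) (y : G) (σ : F ≃+* F) (b : Basis (Fin 4) F V) : Prop where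
  ev : Ev B N
  semi : ∀ (a : F) (v : V), y • a • v = σ a • y • v
  form : ∀ u v, B (y • u) (y • v) = σ (B u v)
  fix : ∀ a, σ a = a → a = 0 ∨ a = 1
  bas : ∀ i, y • b i = b i

variable {y : G} {σ : F ≃+* F} {b : Basis (Fin 4) F V}

theorem D0.nd0 (d : D0 B N y σ b) {u : V} (hu : ∀ v, y • v = v → B u v = 0) : u = 0 := by
  apply d.ev.nd
  intro v
  have h1 : B u = 0 := b.ext fun i => by rw [hu _ (d.bas i), LinearMap.zero_apply]
  rw [h1, LinearMap.zero_apply]

theorem D0.val (d : D0 B N y σ b) {u v : V} (hu : y • u = u) (hv : y • v = v) : B u v = 0 ∨ B u v = 1 := by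
  apply d.fix
  rw [← d.form, hu, hv]

theorem D0.val' (d : D0 B N y σ b) {u v : V} (hu : y • u = u) (hv : y • v = v) (h : B u v ≠ 0) : B u v = 1 :=
  (d.val hu hv).resolve_left h

theorem D0.move (d : D0 B N y σ b) {g : G} (hg : g ∈ N) (hg1 : g ≠ 1) : ∃ v : V, y • v = v ∧ g • v ≠ v := by
  by_contra hcon
  push Not at hcon
  apply hg1
  apply d.ev.inj
  have h1 : (d.ev.le hg).toLinearMap = LinearMap.id := b.ext fun i => hcon _ (d.bas i)
  intro v
  exact LinearMap.congr_fun h1 v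

theorem D0.indep (d : D0 B N y σ b) {u v : V} (hu : y • u = u) (hv : y • v = v) (hu0 : u ≠ 0) (hv0 : v ≠ 0) (huv : u ≠ v)
    (c : F) : u ≠ c • v := by
  intro h1
  have h2 : σ c • v = c • v := by
    have h3 := hu
    rwa [h1, d.semi, hv] at h3
  have h3 := d.fix c (smul_left_injective F hv0 h2)
  rcases h3 with h3 | h3
  · rw [h3, zero_smul] at h1; exact hu0 h1
  · rw [h3, one_smul] at h1; exact huv h1

theorem D0.sum (d : D0 B N y σ b) (v : V) : y • v = ∑ i, σ (b.repr v i) • b i := by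
  have h1 := b.sum_repr v
  nth_rewrite 1 [← h1]
  rw [Finset.smul_sum]
  exact Finset.sum_congr rfl fun i _ => by rw [d.semi, d.bas]

theorem D0.fixed_iff (d : D0 B N y σ b) (v : V) : y • v = v ↔ ∀ i, σ (b.repr v i) = b.repr v i := by
  constructor
  · intro h1 i
    have h2 := d.sum v
    rw [h1] at h2
    have h3 : b.repr v i = b.repr (∑ i, σ (b.repr v i) • b i) i := by rw [← h2]
    rw [b.repr_sum_self] at h3
    exact h3.symm
  · intro h1
    rw [d.sum v]
    simp_rw [h1]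
    exact b.sum_repr v

theorem D0.card (d : D0 B N y σ b) : Nat.card {v : V // y • v = v} = 16 := by
  let f : {v : V // y • v = v} → (Fin 4 → {a : F // σ a = a}) := fun v i => ⟨b.repr v.1 i, (d.fixed_iff v.1).1 v.2 i⟩
  have hf : Function.Bijective f := by
    constructor
    · intro v v' hvv
      apply Subtype.ext
      apply b.repr.injective
      ext i
      exact congrArg Subtype.val (congrFun hvv i)
    · intro a
      have h1 : ∀ i, b.repr (∑ i, (a i).1 • b i) i = (a i).1 := fun i => by rw [b.repr_sum_self]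
      refine ⟨⟨∑ i, (a i).1 • b i, (d.fixed_iff _).2 fun i => by rw [h1]; exact (a i).2⟩, ?_⟩
      funext i
      exact Subtype.ext (h1 i)
  have h2 : Nat.card {a : F // σ a = a} = 2 := by
    have h3 : {a : F | σ a = a} = {0, 1} := by
      ext a
      constructor
      · exact d.fix a
      · rintro (rfl | rfl)
        · exact map_zero σ
        · exact map_one σ
    have h4 : Nat.card {a : F // σ a = a} = ({a : F | σ a = a} : Set F).ncard := rfl
    rw [h4, h3, Set.ncard_pair zero_ne_one]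
  rw [Nat.card_congr (Equiv.ofBijective f hf), Nat.card_fun, h2]
  norm_num

theorem D0.perp (d : D0 B N y σ b) {a1 a2 : V} (h1 : y • a1 = a1) (h2 : y • a2 = a2) :
    ∃ e : V, e ≠ 0 ∧ y • e = e ∧ B e a1 = 0 ∧ B e a2 = 0 := by
  classical
  have hfin : Finite {v : V // y • v = v} := Nat.finite_of_card_ne_zero (by rw [d.card]; norm_num)
  have := Fintype.ofFinite {v : V // y • v = v}
  let f : {v : V // y • v = v} → Bool × Bool := fun v => (decide (B v.1 a1 = 0), decide (B v.1 a2 = 0))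
  have h3 : Fintype.card (Bool × Bool) < Fintype.card {v : V // y • v = v} := by
    rw [← Nat.card_eq_fintype_card, ← Nat.card_eq_fintype_card, d.card]
    simp
  obtain ⟨v, v', hne, hvv⟩ := Fintype.exists_ne_map_eq_of_card_lt f h3
  have key : ∀ a : V, y • a = a → (decide (B v.1 a = 0) = decide (B v'.1 a = 0)) → B (v.1 + v'.1) a = 0 := by
    intro a ha h4
    rw [map_add, LinearMap.add_apply]
    rw [decide_eq_decide] at h4
    by_cases h5 : B v.1 a = 0
    · rw [h5, h4.1 h5, add_zero]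
    · rw [d.val' v.2 ha h5, d.val' v'.2 ha fun h6 => h5 (h4.2 h6), d.ev.add_self]
  refine ⟨v.1 + v'.1, ?_, ?_, key a1 h1 (congrArg Prod.fst hvv), key a2 h2 (congrArg Prod.snd hvv)⟩
  · intro h4
    apply hne
    apply Subtype.ext
    have h5 := eq_neg_of_add_eq_zero_left h4
    rwa [d.ev.vneg] at h5
  · rw [smul_add, v.2, v'.2]

/-- the product of two commuting transvections -/
theorem isM_two (h : Ev B N) {a c : V} : IsM B (a + c) a (h.tr a 1 * h.tr c 1) 1 0 1 ∨ B a c ≠ 0 := by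
  by_cases hac : B a c = 0
  · left
    intro z
    rw [mul_smul, h.tr_apply, h.tr_apply, map_add, map_add, LinearMap.add_apply, map_smul, LinearMap.smul_apply,
      h.symm c a, hac]
    have h1 : z + (1 * (B z a + B z c) + 1 * B z a) • (a + c) + (0 * B z a + 1 * (B z a + B z c)) • a =
      z + (1 * B z c) • c + (1 * (B z a + (1 * B z c) • 0)) • a + (2 : F) • (B z c • a + B z a • (a + c)) := by
      simp only [smul_zero]
      module
    rw [h1, h.two, zero_smul, add_zero]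
  · exact Or.inr hac

/-- a cover by `y` and one linear element -/
theorem one_other {Ω : Type*} [MulAction G Ω] [Nonempty Ω] (d : D0 B N y σ b) (hσ : ∃ k, σ k ≠ k) (hE : Env G Ω N) {s : G} (hs : s ∈ N)
    (hs1 : s ≠ 1) (hsy : s * y = y * s) (hcov : ∀ ω : Ω, y • ω = ω ∨ s • ω = ω) : False := by
  have h := d.ev
  have htr : ∀ {a : V}, y • a = a → h.tr a 1 ∈ N ⊓ Subgroup.centralizer {y} := by
    intro a ha
    refine ⟨h.tr_mem _ _, Subgroup.mem_centralizer_singleton_iff.2 ?_⟩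
    have h1 := h.conj_tr d.semi d.form a 1
    rw [ha, map_one, mul_inv_eq_iff_eq_mul] at h1
    exact h1.symm
  -- it suffices to find a product of two commuting transvections in the commutator group
  have key : ∀ a c : V, y • a = a → y • c = c → a ≠ 0 → c ≠ 0 → a ≠ c → B a c = 0 →
      h.tr a 1 * h.tr c 1 ∈ cmm (N ⊓ Subgroup.centralizer {y}) s → False := by
    intro a c ha hc ha0 hc0 hac hB hmem
    have hM := (isM_two h (a := a) (c := c)).resolve_right fun h1 => h1 hB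
    have htN : h.tr a 1 * h.tr c 1 ∈ N := N.mul_mem (h.tr_mem _ _) (h.tr_mem _ _)
    have hac0 : a + c ≠ 0 := fun h1 => hac (by
      have h2 := eq_neg_of_add_eq_zero_left h1
      rwa [h.vneg] at h2)
    have hyac : y • (a + c) = a + c := by rw [smul_add, ha, hc]
    have hne : a ≠ a + c := fun h1 => hc0 (by simpa using h1)
    have h3 : h.tr a 1 * h.tr c 1 ≠ 1 := by
      intro h4
      obtain ⟨w, hw1, hw2⟩ := exists_dual2 h hac0 (d.indep ha hyac ha0 hac0 hne)
      have h5 := hM w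
      rw [h4, one_smul, h.symm w a, h.symm w (a + c), hw1, hw2] at h5
      simp only [mul_zero, zero_add, mul_one, add_zero, zero_smul, one_smul] at h5
      exact hac0 (left_eq_add.1 h5)
    refine not_cov_one hE (x := y) (y := h.tr a 1 * h.tr c 1)
      (U := N ⊓ Subgroup.centralizer {h.tr a 1 * h.tr c 1}) (fun ω => ?_)
      (fun u hu => Subgroup.mem_centralizer_singleton_iff.1 hu.2) h3
      (fin3 h d.semi d.form hσ hac0 hyac ha (by rw [map_add, LinearMap.add_apply, h.self, h.symm, hB, add_zero])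
        (d.indep ha hyac ha0 hac0 hne) htN hM)
    by_cases hω : y • ω = ω
    · exact Or.inr hω
    left
    refine comm_le (U := N ⊓ Subgroup.centralizer {y}) (x := s) (fun u hu => ?_) hmem
    refine (hcov (u • ω)).resolve_left fun h5 => hω ?_
    have h6 := Subgroup.mem_centralizer_singleton_iff.1 hu.2
    rw [← mul_smul, ← h6, mul_smul] at h5
    exact MulAction.injective u h5
  obtain ⟨v, hv, hsv⟩ := d.move hs hs1
  have hsv' : y • s • v = s • v := by rw [← mul_smul, ← hsy, mul_smul, hv]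
  have hv0 : v ≠ 0 := fun h1 => hsv (by rw [h1, smul_zero])
  have hsv0 : s • v ≠ 0 := fun h1 => hv0 ((smul_eq_zero_iff_eq s).1 h1)
  have hst : s * h.tr v 1 * s⁻¹ = h.tr (s • v) 1 := by
    obtain ⟨τ, h1, h2⟩ := h.semi s
    have h3 := h.conj_tr h1 h2 v 1
    rwa [map_one] at h3
  have hg0 : h.tr v 1 * h.tr (s • v) 1 ∈ cmm (N ⊓ Subgroup.centralizer {y}) s := by
    have h1 : h.tr v 1 * s * (h.tr v 1)⁻¹ * s⁻¹ = h.tr v 1 * h.tr (s • v) 1 := by
      rw [← hst, h.tr_inv]; group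
    rw [← h1]
    exact mem_cmm (htr hv)
  by_cases hB : B v (s • v) = 0
  · exact key v (s • v) hv hsv' hv0 hsv0 (Ne.symm hsv) hB hg0
  have hB1 := d.val' hv hsv' hB
  obtain ⟨c, hc0, hc, hc1, hc2⟩ := d.perp hv hsv'
  have hvc : B v c = 0 := by rw [h.symm, hc1]
  have hsvc : B (s • v) c = 0 := by rw [h.symm, hc2]
  have hk : h.sr hvc ∈ N ⊓ Subgroup.centralizer {y} := by
    refine ⟨h.sr_mem _, Subgroup.mem_centralizer_singleton_iff.2 ?_⟩
    apply h.ext
    intro z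
    have h3 : ∀ a : V, y • a = a → σ (B z a) = B (y • z) a := fun a ha => by rw [← d.form, ha]
    rw [mul_smul, mul_smul, h.sr_apply, h.sr_apply, smul_add, smul_add, d.semi, d.semi, h3 _ hv, h3 _ hc, hv, hc]
  have hkt : ∀ a : V, h.sr hvc * h.tr a 1 * (h.sr hvc)⁻¹ = h.tr (h.sr hvc • a) 1 := by
    intro a
    obtain ⟨τ, h1, h2⟩ := h.semi (h.sr hvc)
    have h3 := h.conj_tr h1 h2 a 1
    rwa [map_one] at h3
  have hkv : h.sr hvc • v = v := by rw [h.sr_apply, h.self, hvc]; simp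
  have hksv : h.sr hvc • s • v = s • v + c := by rw [h.sr_apply, h.symm (s • v) v, hB1, hsvc]; simp
  have h1 := cmm_comm hk hg0
  have h2 := cmm_conj (htr hv) h1
  have h3 : h.tr v 1 * (h.sr hvc * (h.tr v 1 * h.tr (s • v) 1) * (h.sr hvc)⁻¹ * (h.tr v 1 * h.tr (s • v) 1)⁻¹) *
      (h.tr v 1)⁻¹ = h.tr (s • v + c) 1 * h.tr (s • v) 1 := by
    have h4 : h.sr hvc * (h.tr v 1 * h.tr (s • v) 1) * (h.sr hvc)⁻¹ =
        (h.sr hvc * h.tr v 1 * (h.sr hvc)⁻¹) * (h.sr hvc * h.tr (s • v) 1 * (h.sr hvc)⁻¹) := by group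
    rw [h4, hkt, hkt, hkv, hksv, mul_inv_rev, h.tr_inv, h.tr_inv]
    have h5 := h.tr_sq v 1
    calc h.tr v 1 * (h.tr v 1 * h.tr (s • v + c) 1 * (h.tr (s • v) 1 * h.tr v 1)) * h.tr v 1
        = (h.tr v 1 * h.tr v 1) * (h.tr (s • v + c) 1 * h.tr (s • v) 1) * (h.tr v 1 * h.tr v 1) := by group
      _ = _ := by rw [h5, one_mul, mul_one]
  rw [h3] at h2
  refine key (s • v + c) (s • v) (by rw [smul_add, hsv', hc]) hsv' ?_ hsv0 ?_ ?_ h2
  · intro h4
    have h5 := congrArg (B v) h4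
    rw [map_add, hB1, hvc, map_zero, add_zero] at h5
    exact one_ne_zero h5
  · intro h4
    exact hc0 (by simpa using h4)
  · rw [map_add, LinearMap.add_apply, h.self, hc2, add_zero]

/-- counting: a set without fixed points of an element of order `p` -/
theorem cnt {G X : Type*} [Group G] [MulAction G X] {S : Set X} {g : G} {p : ℕ} (hp : p.Prime) (hg : g ^ p = 1)
    (hS : ∀ v ∈ S, g • v ∈ S) (hfin : S.Finite) : S.ncard ≡ {v | v ∈ S ∧ g • v = v}.ncard [MOD p] := by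
  classical
  have := Fact.mk hp
  have := hfin.to_subtype
  have := Fintype.ofFinite S
  let f : Function.End S := fun v => ⟨g • v.1, hS v.1 v.2⟩
  have h1 : ∀ (k : ℕ) (v : S), ((f ^ k) v : X) = g ^ k • (v : X) := by
    intro k
    induction k with
    | zero => intro v; rw [pow_zero, pow_zero, one_smul]; rfl
    | succ k ih =>
      intro v
      rw [pow_succ', pow_succ']
      show g • ((f ^ k) v : X) = (g * g ^ k) • (v : X)
      rw [ih, mul_smul]
  have h2 : f ^ p ^ 1 = 1 := by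
    rw [pow_one]
    funext v
    apply Subtype.ext
    rw [h1, hg, one_smul]
    rfl
  have h3 := Equiv.Perm.card_fixedPoints_modEq h2
  rw [← Nat.card_eq_fintype_card, ← Nat.card_eq_fintype_card] at h3
  have h4 : Nat.card S = S.ncard := rfl
  have h5 : Nat.card (Function.fixedPoints f) = {v | v ∈ S ∧ g • v = v}.ncard := by
    rw [← Nat.card_coe_set_eq]
    refine Nat.card_congr ⟨fun v => ⟨v.1.1, v.1.2, congrArg Subtype.val v.2⟩, fun v => ⟨⟨v.1, v.2.1⟩, Subtype.ext v.2.2⟩,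
      fun v => rfl, fun v => rfl⟩
  rw [h4, h5] at h3
  exact h3

/-- fixed vectors -/
def fx (V : Type*) [AddCommGroup V] [DistribMulAction G V] (g : G) : AddSubgroup V where
  carrier := {v | g • v = v}
  zero_mem' := smul_zero g
  add_mem' := fun {a b} ha hb => by
    show g • (a + b) = a + b
    rw [smul_add, ha, hb]
  neg_mem' := fun {a} ha => by
    show g • (-a) = -a
    rw [smul_neg, ha]

theorem mem_fx {g : G} {v : V} : v ∈ fx V g ↔ g • v = v := Iff.rfl

theorem D0.card_fx (d : D0 B N y σ b) : Nat.card (fx V y) = 16 := d.card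

theorem D0.fin_fx (d : D0 B N y σ b) : (fx V y : Set V).Finite :=
  Set.finite_coe_iff.1 (Nat.finite_of_card_ne_zero (by
    have := d.card
    change Nat.card (fx V y) = 16 at this
    rw [SetLike.coe_sort_coe, this]; norm_num))

theorem stab_fx {g g' : G} (hc : g * g' = g' * g) {v : V} (hv : v ∈ fx V g') : g • v ∈ fx V g' := by
  rw [mem_fx, ← mul_smul, ← hc, mul_smul, mem_fx.1 hv]

/-- commuting elements of order 3 and 5 without fixed vectors do not exist in `Sp₄(2)` -/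
theorem D0.no_35 (d : D0 B N y σ b) {a c : G} (ha : a ∈ N) (hc : c ∈ N) (ha5 : a ^ 5 = 1) (hc3 : c ^ 3 = 1)
    (hac : a * c = c * a) (hay : a * y = y * a) (hcy : c * y = y * c) (hafix : ∀ v : V, y • v = v → a • v = v → v = 0)
    (hcfix : ∀ v : V, y • v = v → c • v = v → v = 0) : False := by
  have h := d.ev
  let Z : Set V := {v | y • v = v ∧ v ≠ 0 ∧ B v (c • v) = 0}
  have hZ0 : Z ⊆ (fx V y : Set V) := fun v hv => hv.1
  have hZfin := d.fin_fx.subset hZ0
  have key : ∀ (g : G) (p : ℕ), g ∈ N → p.Prime → g ^ p = 1 → g * y = y * g → g * c = c * g →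
      (∀ v : V, y • v = v → g • v = v → v = 0) → p ∣ Z.ncard := by
    intro g p hg hp hgp hgy hgc hfix
    have h1 := cnt hp hgp (S := Z) (fun v hv => ⟨stab_fx hgy hv.1, fun h2 => hv.2.1 ((smul_eq_zero_iff_eq g).1 h2), by
      rw [← mul_smul, ← hgc, mul_smul, h.isom hg, hv.2.2]⟩) hZfin
    have h2 : {v | v ∈ Z ∧ g • v = v} = (∅ : Set V) := by
      ext v
      constructor
      · rintro ⟨h3, h4⟩
        exact absurd (hfix v h3.1 h4) h3.2.1
      · intro h3
        exact h3.elim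
    rw [h2, Set.ncard_empty] at h1
    exact (Nat.modEq_zero_iff_dvd).1 h1
  have h5 := key a 5 ha (by norm_num) ha5 hay hac hafix
  have h3 := key c 3 hc (by norm_num) hc3 hcy rfl hcfix
  have hall : ((fx V y : Set V) \ {0}).ncard = 15 := by
    rw [Set.ncard_sdiff_singleton_of_mem (fx V y).zero_mem]
    have := d.card_fx
    rw [← SetLike.coe_sort_coe, Nat.card_coe_set_eq] at this
    rw [this]
  have hZle : Z ⊆ (fx V y : Set V) \ {0} := fun v hv => ⟨hv.1, hv.2.1⟩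
  have hfin' : ((fx V y : Set V) \ {0}).Finite := d.fin_fx.subset Set.sdiff_subset
  have h15 : Z.ncard ≤ 15 := hall ▸ Set.ncard_le_ncard hZle hfin'
  have h0 : Z.ncard = 0 ∨ Z.ncard = 15 := by
    have : 15 ∣ Z.ncard := by
      have := Nat.Coprime.mul_dvd_of_dvd_of_dvd (by norm_num : Nat.Coprime 5 3) h5 h3
      simpa using this
    omega
  -- `c² v + c v + v = 0`
  have hc2 : ∀ v : V, y • v = v → c • c • v = c • v + v := by
    intro v hv
    have h1 : c • c • v + c • v + v = 0 := by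
      apply hcfix
      · have h6 : y • c • v = c • v := stab_fx hcy hv
        have h7 : y • c • c • v = c • c • v := stab_fx hcy h6
        rw [smul_add, smul_add, h6, h7, hv]
      · rw [smul_add, smul_add]
        have h6 : c • c • c • v = v := by rw [← mul_smul, ← mul_smul, ← pow_two, ← pow_succ, hc3, one_smul]
        rw [h6]; abel
    rw [add_assoc] at h1
    have h2 := eq_neg_of_add_eq_zero_left h1
    rwa [h.vneg] at h2
  have hb0 : (b 0 : V) ≠ 0 := b.ne_zero 0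
  have hcy' : ∀ {v : V}, y • v = v → y • c • v = c • v := fun hv => stab_fx hcy hv
  rcases h0 with h0 | h0
  · rw [Set.ncard_eq_zero hZfin] at h0
    have h1 : ∀ v : V, y • v = v → v ≠ 0 → B v (c • v) = 1 := fun v hv hv0 => d.val' hv (hcy' hv) fun h2 => by
      have h6 : v ∈ Z := ⟨hv, hv0, h2⟩
      rw [h0] at h6
      exact h6
    obtain ⟨e, he0, he, he1, he2⟩ := d.perp (d.bas 0) (hcy' (d.bas 0))
    have h2 := h1 _ (d.bas 0) hb0
    have h6 := h1 e he he0
    have h7 : b 0 + e ≠ 0 := by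
      intro h8
      have h9 := eq_neg_of_add_eq_zero_left h8
      rw [h.vneg] at h9
      rw [← h9, h2] at he2
      exact one_ne_zero he2
    have h8 := h1 (b 0 + e) (by rw [smul_add, d.bas, he]) h7
    have h9 : B (b 0) (c • e) = 0 := by
      have h10 : c • c • c • e = e := by rw [← mul_smul, ← mul_smul, ← pow_two, ← pow_succ, hc3, one_smul]
      rw [← h.isom hc, ← h.isom hc, h10, hc2 _ (d.bas 0), map_add, LinearMap.add_apply, h.symm _ e, h.symm _ e, he1, he2,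
        add_zero]
    simp only [smul_add, map_add, LinearMap.add_apply] at h8
    rw [h2, h6, h9, he2, add_zero, zero_add, h.add_self] at h8
    exact zero_ne_one h8
  · have h1 : Z = (fx V y : Set V) \ {0} := Set.eq_of_subset_of_ncard_le hZle (by rw [hall, h0]) hfin'
    have h2 : ∀ v : V, y • v = v → B v (c • v) = 0 := by
      intro v hv
      by_cases hv0 : v = 0
      · rw [hv0, map_zero, LinearMap.zero_apply]
      · have h6 : v ∈ Z := by
          rw [h1]
          exact ⟨hv, hv0⟩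
        exact h6.2.2
    have h6 : ∀ v w : V, y • v = v → y • w = w → B v (c • w) = B (c • v) w := by
      intro v w hv hw
      have h7 := h2 (v + w) (by rw [smul_add, hv, hw])
      simp only [smul_add, map_add, LinearMap.add_apply] at h7
      rw [h2 v hv, h2 w hw, zero_add, add_zero, add_comm] at h7
      have h8 := eq_neg_of_add_eq_zero_left h7
      rw [h.symm (c • v) w, h8]
      exact h.neg _
    have h7 : ∀ v w : V, y • v = v → y • w = w → B v (c • w) = 0 := by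
      intro v w hv hw
      have h8 := h6 v (c • w) hv (hcy' hw)
      rw [h.isom hc, hc2 w hw, map_add] at h8
      exact left_eq_add.1 (by rw [add_comm]; exact h8.symm)
    have h8 : c • b 0 = 0 := d.nd0 fun v hv => by rw [h.symm]; exact h7 v _ hv (d.bas 0)
    exact hb0 ((smul_eq_zero_iff_eq c).1 h8)

theorem D0.card_dvd (d : D0 B N y σ b) (K : AddSubgroup V) (hK : K ≤ fx V y) : Nat.card K ∣ 16 := by
  rw [← d.card_fx]
  exact AddSubgroup.card_dvd_of_le hK

theorem D0.cnt_fx (d : D0 B N y σ b) {K : AddSubgroup V} (hK : K ≤ fx V y) {g : G} {p : ℕ} (hp : p.Prime) (hg : g ^ p = 1)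
    (hS : ∀ v ∈ K, g • v ∈ K) : Nat.card K ≡ Nat.card (K ⊓ fx V g : AddSubgroup V) [MOD p] := by
  have h1 := cnt hp hg (S := (K : Set V)) hS (d.fin_fx.subset hK)
  exact h1

theorem dvd_sixteen {n : ℕ} (hn : n ∣ 16) : n = 1 ∨ n = 2 ∨ n = 4 ∨ n = 8 ∨ n = 16 := by
  obtain ⟨k, hk, rfl⟩ := (Nat.dvd_prime_pow Nat.prime_two).1 (show n ∣ 2 ^ 4 from hn)
  interval_cases k <;> simp

theorem prime_cases {p n : ℕ} (hp : p.Prime) (hp2 : p ≠ 2) (hn : n ∣ 16) (hn16 : n ≠ 16) (h : 16 ≡ n [MOD p]) :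
    (p = 3 ∧ (n = 1 ∨ n = 4)) ∨ (p = 5 ∧ n = 1) ∨ (p = 7 ∧ n = 2) := by
  have h2 : p ∣ 16 - n := (Nat.modEq_iff_dvd' (Nat.le_of_dvd (by norm_num) hn)).1 h.symm
  rcases dvd_sixteen hn with h | h | h | h | h <;> subst h
  · have h3 : p ∣ 3 * 5 := h2
    rcases (Nat.Prime.dvd_mul hp).1 h3 with h4 | h4
    · exact Or.inl ⟨(Nat.prime_dvd_prime_iff_eq hp Nat.prime_three).1 h4, Or.inl rfl⟩
    · exact Or.inr (Or.inl ⟨(Nat.prime_dvd_prime_iff_eq hp Nat.prime_five).1 h4, rfl⟩)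
  · have h3 : p ∣ 2 * 7 := h2
    rcases (Nat.Prime.dvd_mul hp).1 h3 with h4 | h4
    · exact absurd ((Nat.prime_dvd_prime_iff_eq hp Nat.prime_two).1 h4) hp2
    · exact Or.inr (Or.inr ⟨(Nat.prime_dvd_prime_iff_eq hp (by norm_num)).1 h4, rfl⟩)
  · have h3 : p ∣ 2 ^ 2 * 3 := h2
    rcases (Nat.Prime.dvd_mul hp).1 h3 with h4 | h4
    · exact absurd ((Nat.prime_dvd_prime_iff_eq hp Nat.prime_two).1 (hp.dvd_of_dvd_pow h4)) hp2
    · exact Or.inl ⟨(Nat.prime_dvd_prime_iff_eq hp Nat.prime_three).1 h4, Or.inr rfl⟩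
  · have h3 : p ∣ 2 ^ 3 := h2
    exact absurd ((Nat.prime_dvd_prime_iff_eq hp Nat.prime_two).1 (hp.dvd_of_dvd_pow h3)) hp2
  · exact absurd rfl hn16

theorem ari_35 {p q A C D : ℕ} (hp : p.Prime) (hq : q.Prime) (hp2 : p ≠ 2) (hq2 : q ≠ 2) (hpq : p ≠ q)
    (hA : 16 ≡ A [MOD p]) (hC : 16 ≡ C [MOD q]) (hAD : A ≡ D [MOD q]) (hCD : C ≡ D [MOD p]) (hA16 : A ∣ 16) (hC16 : C ∣ 16)
    (hDA : D ∣ A) (hDC : D ∣ C) (hA1 : A ≠ 16) (hC1 : C ≠ 16) :
    A = 1 ∧ C = 1 ∧ ((p = 3 ∧ q = 5) ∨ (p = 5 ∧ q = 3)) := by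
  have hD16 := dvd_sixteen (hDA.trans hA16)
  have hDA' := Nat.le_of_dvd (Nat.pos_of_dvd_of_pos hA16 (by norm_num)) hDA
  have hDC' := Nat.le_of_dvd (Nat.pos_of_dvd_of_pos hC16 (by norm_num)) hDC
  unfold Nat.ModEq at hAD hCD
  rcases prime_cases hp hp2 hA16 hA1 hA with ⟨rfl, h1⟩ | ⟨rfl, h1⟩ | ⟨rfl, h1⟩ <;>
  rcases prime_cases hq hq2 hC16 hC1 hC with ⟨rfl, h2⟩ | ⟨rfl, h2⟩ | ⟨rfl, h2⟩ <;> omega

/-- commuting linear elements of different odd prime orders do not exist -/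
theorem D0.no_two_odd (d : D0 B N y σ b) {a c : G} (ha : a ∈ N) (hc : c ∈ N) {p q : ℕ} (hp : p.Prime) (hq : q.Prime)
    (hp2 : p ≠ 2) (hq2 : q ≠ 2) (hpq : p ≠ q) (hap : a ^ p = 1) (hcq : c ^ q = 1) (ha1 : a ≠ 1) (hc1 : c ≠ 1)
    (hac : a * c = c * a) (hay : a * y = y * a) (hcy : c * y = y * c) : False := by
  have hA := d.cnt_fx le_rfl hp hap (fun v hv => stab_fx hay hv)
  have hC := d.cnt_fx le_rfl hq hcq (fun v hv => stab_fx hcy hv)
  have hAD := d.cnt_fx (K := fx V y ⊓ fx V a) inf_le_left hq hcq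
    (fun v hv => ⟨stab_fx hcy hv.1, stab_fx hac.symm hv.2⟩)
  have hCD := d.cnt_fx (K := fx V y ⊓ fx V c) inf_le_left hp hap
    (fun v hv => ⟨stab_fx hay hv.1, stab_fx hac hv.2⟩)
  have hA16 := d.card_dvd (fx V y ⊓ fx V a) inf_le_left
  have hC16 := d.card_dvd (fx V y ⊓ fx V c) inf_le_left
  have hDA : Nat.card (fx V y ⊓ fx V a ⊓ fx V c : AddSubgroup V) ∣ Nat.card (fx V y ⊓ fx V a : AddSubgroup V) :=
    AddSubgroup.card_dvd_of_le inf_le_left
  have hDe : fx V y ⊓ fx V c ⊓ fx V a = fx V y ⊓ fx V a ⊓ fx V c := inf_right_comm _ _ _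
  have hDC : Nat.card (fx V y ⊓ fx V a ⊓ fx V c : AddSubgroup V) ∣ Nat.card (fx V y ⊓ fx V c : AddSubgroup V) := by
    rw [← hDe]
    exact AddSubgroup.card_dvd_of_le inf_le_left
  rw [hDe] at hCD
  rw [d.card_fx] at hA hC
  have hne : ∀ g : G, g ∈ N → g ≠ 1 → Nat.card (fx V y ⊓ fx V g : AddSubgroup V) ≠ 16 := by
    intro g hg hg1 h1
    obtain ⟨v, hv, hgv⟩ := d.move hg hg1
    have hfin : Finite (fx V y) := d.fin_fx
    have h2 : fx V y ⊓ fx V g = fx V y := AddSubgroup.eq_of_le_of_card_ge inf_le_left (by rw [h1, d.card_fx])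
    have h3 : v ∈ fx V y := hv
    rw [← h2] at h3
    exact hgv h3.2
  have hbot : ∀ g : G, Nat.card (fx V y ⊓ fx V g : AddSubgroup V) = 1 → ∀ v : V, y • v = v → g • v = v → v = 0 := by
    intro g h1 v hv hgv
    rw [AddSubgroup.card_eq_one] at h1
    have h2 : v ∈ fx V y ⊓ fx V g := ⟨hv, hgv⟩
    rw [h1] at h2
    exact h2
  obtain ⟨h1, h2, h3⟩ := ari_35 hp hq hp2 hq2 hpq hA hC hAD hCD hA16 hC16 hDA hDC (hne a ha ha1) (hne c hc hc1)
  rcases h3 with ⟨rfl, rfl⟩ | ⟨rfl, rfl⟩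
  · exact d.no_35 hc ha hcq hap hac.symm hcy hay (hbot c h2) (hbot a h1)
  · exact d.no_35 ha hc hap hcq hac hay hcy (hbot a h1) (hbot c h2)

/-- elements of `QS h e` commuting with a linear element of odd order are transvections -/
theorem QS_comm (h : Ev B N) [FiniteDimensional F V] (h4 : finrank F V = 4) {x : G} (hx : x ∈ N) {r : ℕ} (hxr : x ^ r = 1)
    (hr : r % 2 = 1) (hx1 : x ≠ 1) {e : V} (he : e ≠ 0) (hxe : x • e = e) {g : G} (hg : g ∈ QS h e) (hgx : g * x = x * g) :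
    ∃ c', ∀ z : V, g • z = z + (c' * B z e) • e := by
  obtain ⟨hgN, w', c', he', h1⟩ := hg
  have h2 := h1.conj h hx hxe
  have h3 : x * g * x⁻¹ = g := by rw [← hgx, mul_inv_cancel_right]
  rw [h3] at h2
  obtain ⟨z, hz⟩ := exists_dual h he
  rw [h.symm] at hz
  have h4' := (h1 z).symm.trans (h2 z)
  rw [hz, one_smul, one_smul, add_assoc, add_assoc] at h4'
  have h5 := add_left_cancel h4'
  have h6 : x • w' + w' = (B z w' + B z (x • w')) • e := by
    have h7 : x • w' = w' + (B z w' + c' * 1) • e - (B z (x • w') + c' * 1) • e := eq_sub_of_add_eq h5.symm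
    have h8 : x • w' + w' = (2 : F) • (w' - B z (x • w') • e) + (B z w' + B z (x • w')) • e := by
      nth_rewrite 1 [h7]
      module
    rw [h8, h.two, zero_smul, zero_add]
  obtain ⟨b, hb⟩ := fpf1 h h4 hx hxr hr hx1 he hxe he' h6
  refine ⟨c', fun z => ?_⟩
  have h10 : z + B z e • b • e + (B z (b • e) + c' * B z e) • e =
      z + (c' * B z e) • e + (2 : F) • ((b * B z e) • e) := by
    rw [map_smul, smul_eq_mul]; module
  rw [h1 z, hb, h10, h.two, zero_smul, add_zero]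

theorem comm_of_tr (h : Ev B N) {g x : G} (hx : x ∈ N) {e : V} (hxe : x • e = e) {c : F}
    (hg : ∀ z : V, g • z = z + (c * B z e) • e) : g * x = x * g := by
  apply h.ext
  intro z
  rw [mul_smul, mul_smul, hg, hg, smul_add, h.lin hx, hxe]
  have h10 := h.isom hx z e
  rw [hxe] at h10
  rw [h10]

theorem conj_tr_lin (h : Ev B N) {g : G} (hg : g ∈ N) (e : V) (c : F) : g * h.tr e c * g⁻¹ = h.tr (g • e) c := by
  have h1 := h.conj_tr (σ := RingEquiv.refl F) (fun a v => h.lin hg a v) (fun u v => h.isom hg u v) e c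
  exact h1

/-- **an involution of type 1, an odd linear element, a field automorphism** -/
theorem inv1 {Ω ι : Type*} [Finite F] [FiniteDimensional F V] [Finite G] [MulAction G Ω] [Nonempty Ω] [Finite ι]
    (hE : Env G Ω N) {x : ι → G} {r : ι → ℕ} (hx : PF x r) (hcov : Cov Ω x) (hdim : finrank F V = 4) (hq : 2 < Nat.card F)
    {i0 i1 j0 : ι} (d : D0 B N (x i1) σ b) (hσ : ∃ k, σ k ≠ k) (hi : r i0 = 2) (h01 : i0 ≠ i1) (hj0 : j0 ≠ i0) (hj1 : j0 ≠ i1)
    (hlin : ∀ j, j ≠ i1 → x j ∈ N) {e : V} {c : F} (he : e ≠ 0) (hc : c ≠ 0) (hu : IsQ B e (x i0) 0 c) : False := by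
  have h := d.ev
  have hodd : ∀ j, j ≠ i0 → r j % 2 = 1 := fun j hj =>
    (hx.prime j).eq_two_or_odd.resolve_left fun h3 => hj (hx.inj (h3.trans hi.symm))
  have huN := hlin i0 h01
  have hsN := hlin j0 hj1
  -- a fixed centre
  obtain ⟨e', c', he', hye, hu'⟩ : ∃ (e' : V) (c' : F), e' ≠ 0 ∧ x i1 • e' = e' ∧ IsQ B e' (x i0) 0 c' := by
    obtain ⟨v0, hv0, huv0⟩ := d.move huN (hx.ne i0)
    have h1 : x i0 • v0 + v0 = (c * B v0 e) • e := by
      rw [hu v0, map_zero, smul_zero, add_zero, zero_add, add_right_comm, h.vadd_self, zero_add]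
    have h2 : x i0 • v0 + v0 ≠ 0 := by
      intro h3
      have h4 := eq_neg_of_add_eq_zero_left h3
      rw [h.vneg] at h4
      exact huv0 h4
    have h3 : c * B v0 e ≠ 0 := by
      intro h4
      rw [h1, h4, zero_smul] at h2
      exact h2 rfl
    refine ⟨(c * B v0 e) • e, c / (c * B v0 e) ^ 2, by rwa [← h1], ?_, ?_⟩
    · rw [← h1, smul_add, hv0]
      have h4 : x i1 • x i0 • v0 = x i0 • v0 := by
        rw [← mul_smul, hx.comm, mul_smul, hv0]
      rw [h4]
    · generalize c * B v0 e = l at h3 ⊢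
      intro z
      rw [hu z, map_smul, smul_smul, map_zero, smul_zero, smul_zero, add_zero, zero_add, zero_add, smul_eq_mul]
      congr 2
      field_simp
  clear hu he hc
  have hc' : c' ≠ 0 := by
    rintro rfl
    apply hx.ne i0
    apply h.ext
    intro z
    rw [hu' z]; simp
  have hfix : ∀ j, j ≠ i1 → x j • e' = e' := fun j hj => fix_centre h he' hc' hu' (hlin j hj) (hx.comm _ _)
  obtain ⟨z0, hz0, hez0⟩ : ∃ z0 : V, x i1 • z0 = z0 ∧ B e' z0 = 1 := by
    by_contra hcon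
    push Not at hcon
    apply he'
    apply d.nd0
    intro v hv
    by_contra h1
    exact hcon v hv (d.val' hye hv h1)
  obtain ⟨w0, hw0, hyw0, hw0e, hw0z⟩ := d.perp hye hz0
  have hne : w0 ≠ e' := by
    rintro rfl
    rw [hez0] at hw0z
    exact one_ne_zero hw0z
  have hysw : x i1 • x j0 • w0 = x j0 • w0 := by rw [← mul_smul, hx.comm, mul_smul, hyw0]
  obtain ⟨k, hk⟩ := hσ
  have hm : k + σ k ≠ 0 := by
    intro h3
    apply hk
    have h4 := eq_neg_of_add_eq_zero_left h3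
    rw [h.neg] at h4
    exact h4.symm
  have hew0 : B e' w0 = 0 := by rw [h.symm, hw0e]
  have hesw : B e' (x j0 • w0) = 0 := by
    have := h.isom hsN e' w0
    rwa [hfix j0 hj1, hew0] at this
  have hmw : B e' ((k + σ k) • w0) = 0 := by rw [map_smul, hew0, smul_zero]
  have hemw : B e' ((k + σ k) • (w0 + x j0 • w0)) = 0 := by rw [map_smul, map_add, hew0, hesw, add_zero, smul_zero]
  have hkw : B e' (k • (w0 + x j0 • w0)) = 0 := by rw [map_smul, map_add, hew0, hesw, add_zero, smul_zero]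
  set bb : F := B (x j0 • w0) w0 with hbb
  have hσbb : σ bb = bb := by rw [hbb, ← d.form, hysw, hyw0]
  -- the element `t`
  have q0 : ∀ {w : V} (hw : B e' w = 0), IsQ B e' (h.sr hw) w 0 := fun hw z => by rw [h.sr_apply, zero_mul, add_zero]
  have qt : ∀ c : F, IsQ B e' (h.tr e' c) 0 c := fun c z => by rw [h.tr_apply]; simp
  have t1 : IsQ B e' (h.sr hmw * x j0 * (h.sr hmw)⁻¹ * (x j0)⁻¹) ((k + σ k) • (w0 + x j0 • w0)) ((k + σ k) ^ 2 * bb) := by
    have h1 := (q0 hmw).conj h hsN (hfix j0 hj1)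
    have h2 := (q0 hmw).mul h (h.sr_mem _) hmw (by rw [h.lin hsN, map_smul, hesw, smul_zero]) h1
    have h3 : h.sr hmw * (x j0 * h.sr hmw * (x j0)⁻¹) = h.sr hmw * x j0 * (h.sr hmw)⁻¹ * (x j0)⁻¹ := by
      rw [h.sr_inv]; group
    rw [h3, h.lin hsN, ← smul_add, add_zero, zero_add, map_smul, map_smul, LinearMap.smul_apply, ← hbb, smul_eq_mul,
      smul_eq_mul, ← mul_assoc, ← pow_two] at h2
    exact h2
  have t1N : h.sr hmw * x j0 * (h.sr hmw)⁻¹ * (x j0)⁻¹ ∈ N :=
    N.mul_mem (N.mul_mem (N.mul_mem (h.sr_mem _) hsN) (N.inv_mem (h.sr_mem _))) (N.inv_mem hsN)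
  have hyN : ∀ g ∈ N, x i1 * g * (x i1)⁻¹ ∈ N := fun g hg => hE.norm.conj_mem g hg (x i1)
  have t2 : IsQ B e' (h.sr hkw * x i1 * (h.sr hkw)⁻¹ * (x i1)⁻¹) ((k + σ k) • (w0 + x j0 • w0)) 0 := by
    have h1 := (q0 hkw).conj_semi h d.semi d.form hye
    have hyw : x i1 • k • (w0 + x j0 • w0) = σ k • (w0 + x j0 • w0) := by rw [d.semi, smul_add, hyw0, hysw]
    rw [hyw] at h1
    have h2 := (q0 hkw).mul h (h.sr_mem _) hkw (by rw [map_smul, map_add, hew0, hesw, add_zero, smul_zero]) h1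
    have h3 : h.sr hkw * (x i1 * h.sr hkw * (x i1)⁻¹) = h.sr hkw * x i1 * (h.sr hkw)⁻¹ * (x i1)⁻¹ := by
      rw [h.sr_inv]; group
    rw [h3, ← add_smul, map_zero, add_zero, zero_add, map_smul, map_smul, LinearMap.smul_apply, h.self, smul_zero,
      smul_zero] at h2
    exact h2
  have t2N : h.sr hkw * x i1 * (h.sr hkw)⁻¹ * (x i1)⁻¹ ∈ N := by
    have h1 := N.mul_mem (h.sr_mem hkw) (hyN _ (N.inv_mem (h.sr_mem hkw)))
    rwa [← mul_assoc, ← mul_assoc] at h1
  have t3 : IsQ B e' (h.tr e' (k ^ 2 * bb) * x i1 * (h.tr e' (k ^ 2 * bb))⁻¹ * (x i1)⁻¹) 0 ((k + σ k) ^ 2 * bb) := by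
    rw [tr_comm h d.semi d.form hye, map_mul, map_pow, hσbb]
    have h2 := (qt (k ^ 2 * bb)).mul h (h.tr_mem _ _) (map_zero _) (map_zero _) (qt (σ k ^ 2 * bb))
    rw [add_zero, map_zero, add_zero] at h2
    have h3 : k ^ 2 * bb + σ k ^ 2 * bb = (k + σ k) ^ 2 * bb := by linear_combination (-(k * σ k * bb)) * h.two
    rw [h3] at h2
    exact h2
  have hteq : h.sr hmw * x j0 * (h.sr hmw)⁻¹ * (x j0)⁻¹ =
      (h.sr hkw * x i1 * (h.sr hkw)⁻¹ * (x i1)⁻¹) *
        (h.tr e' (k ^ 2 * bb) * x i1 * (h.tr e' (k ^ 2 * bb))⁻¹ * (x i1)⁻¹) := by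
    have h1 := t2.mul h t2N hemw (map_zero _) t3
    rw [add_zero, zero_add, map_zero, LinearMap.zero_apply, add_zero] at h1
    exact t1.eq h h1
  have hmem : ∀ j, ∀ g ∈ QS h e', x j * g * (x j)⁻¹ ∈ QS h e' := by
    rintro j g ⟨hg, w', c', he', h1⟩
    by_cases hj : j = i1
    · subst hj
      refine ⟨hyN g hg, x j • w', σ c', ?_, h1.conj_semi h d.semi d.form hye⟩
      have := d.form e' w'
      rwa [hye, he', map_zero] at this
    · refine ⟨N.mul_mem (N.mul_mem (hlin j hj) hg) (N.inv_mem (hlin j hj)), x j • w', c', ?_,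
        h1.conj h (hlin j hj) (hfix j hj)⟩
      have := h.isom (hlin j hj) e' w'
      rwa [hfix j hj, he'] at this
  have hU2 : ∀ u ∈ QS h e', u * u = 1 := by
    rintro g ⟨hg, w', c', he', h1⟩
    exact h1.sq h hg he'
  have hab : ∀ u ∈ QS h e', ∀ v ∈ QS h e', u * v = v * u := by
    intro u hu v hv
    have h1 := hU2 _ ((QS h e').mul_mem hu hv)
    have h4 : u⁻¹ = u := inv_eq_of_mul_eq_one_left (hU2 _ hu)
    have h5 : v⁻¹ = v := inv_eq_of_mul_eq_one_left (hU2 _ hv)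
    have h6 : (u * v)⁻¹ = u * v := inv_eq_of_mul_eq_one_left h1
    rw [mul_inv_rev, h4, h5] at h6
    exact h6.symm
  have hu0Q : h.sr hmw ∈ QS h e' := ⟨h.sr_mem _, _, 0, hmw, q0 hmw⟩
  have hcop : ∀ j, j ≠ i0 → (r j).Coprime (Nat.card (QS h e')) := fun j hj =>
    coprime_of_sq hU2 (hx.prime j) fun h1 => by have := hodd j hj; omega
  refine two_rule_all hE hx hcov hi (U := QS h e') hU2 ⟨huN, 0, c', map_zero _, hu'⟩ hmem
    (t := h.sr hmw * x j0 * (h.sr hmw)⁻¹ * (x j0)⁻¹) (fun j hj => ?_) ?_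
  · by_cases hji : j = i1
    · rw [hteq, hji]
      exact (cmm _ _).mul_mem (mem_cmm ⟨h.sr_mem _, _, 0, hkw, q0 hkw⟩)
        (mem_cmm ⟨h.tr_mem _ _, 0, _, map_zero _, qt _⟩)
    · refine common hab (hx.pow j0) (hcop j0 hj0) (hx.comm j0 j) (hmem _) (hmem _) (fun u hu h2 => ?_) hu0Q
      obtain ⟨c2, hc2⟩ := QS_comm h hdim (hlin j hji) (hx.pow j) (hodd j hj) (hx.ne j) he' (hfix j hji) hu h2
      exact comm_of_tr h hsN (hfix j0 hj1) hc2
  · refine fin1 hq h he' hu' t1N hemw t1 fun a ha => ?_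
    have h1 : x j0 • w0 + w0 = ((k + σ k)⁻¹ * a) • e' := by
      rw [mul_smul, ← ha, smul_smul, inv_mul_cancel₀ hm, one_smul, add_comm]
    obtain ⟨b', hb'⟩ := fpf1 h hdim hsN (hx.pow j0) (hodd j0 hj0) (hx.ne j0) he' (hfix j0 hj1) hew0 h1
    exact d.indep hyw0 hye hw0 he' hne b' hb'

/-- **an involution of type 2, an odd linear element, a field automorphism** -/
theorem inv2 {Ω ι : Type*} [Finite F] [FiniteDimensional F V] [Finite G] [MulAction G Ω] [Nonempty Ω] [Finite ι]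
    (hE : Env G Ω N) {x : ι → G} {r : ι → ℕ} (hx : PF x r) (hcov : Cov Ω x) (hdim : finrank F V = 4) (hq : 2 < Nat.card F)
    {i0 i1 j0 : ι} (d : D0 B N (x i1) σ b) (hσ : ∃ k, σ k ≠ k) (hi : r i0 = 2) (h01 : i0 ≠ i1) (hj0 : j0 ≠ i0) (hj1 : j0 ≠ i1)
    (hlin : ∀ j, j ≠ i1 → x j ∈ N) (hu2 : x i0 * x i0 = 1) (hru : ∀ z : V, x i0 • z = z → ∃ y : V, x i0 • y + y = z)
    (hk2 : finrank F (LinearMap.ker (nu d.ev (hlin i0 h01))) = 2) : False := by
  have h := d.ev
  have hodd : ∀ j, j ≠ i0 → r j % 2 = 1 := fun j hj =>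
    (hx.prime j).eq_two_or_odd.resolve_left fun h3 => hj (hx.inj (h3.trans hi.symm))
  have huN := hlin i0 h01
  have hsN := hlin j0 hj1
  have hfpf : ∀ j, j ≠ i0 → j ≠ i1 → ∀ z : V, x j • z = z → z = 0 := fun j hj hj' z hz =>
    fpf2 h hdim huN hu2 hru (hlin j hj') (hx.pow j) (hodd j hj) (hx.ne j) (hx.comm _ _) hz
  obtain ⟨v, hv0, hyv, huv⟩ : ∃ v : V, v ≠ 0 ∧ x i1 • v = v ∧ x i0 • v = v := by
    obtain ⟨v0, hv0, huv0⟩ := d.move huN (hx.ne i0)
    refine ⟨x i0 • v0 + v0, ?_, ?_, nu_nu h hu2 v0⟩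
    · intro h3
      have h4 := eq_neg_of_add_eq_zero_left h3
      rw [h.vneg] at h4
      exact huv0 h4
    · have h4 : x i1 • x i0 • v0 = x i0 • v0 := by rw [← mul_smul, hx.comm, mul_smul, hv0]
      rw [smul_add, hv0, h4]
  have hcm : ∀ i j : ι, ∀ z : V, x i • z = z → x i • x j • z = x j • z := fun i j z hz => by
    rw [← mul_smul, hx.comm, mul_smul, hz]
  obtain ⟨v', hv'⟩ : ∃ v', v' = x j0 • v := ⟨_, rfl⟩
  have hyv' : x i1 • v' = v' := by rw [hv']; exact hcm _ _ v hyv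
  have huv' : x i0 • v' = v' := by rw [hv']; exact hcm _ _ v huv
  have hv'0 : v' ≠ 0 := fun h1 => hv0 ((smul_eq_zero_iff_eq (x j0)).1 (hv'.symm.trans h1))
  have hne : v ≠ v' := fun h1 => hv0 (hfpf j0 hj0 hj1 v (hv'.symm.trans h1.symm))
  have hi1 := d.indep hyv hyv' hv0 hv'0 hne
  have hi2 := d.indep hyv' hyv hv'0 hv0 hne.symm
  have hvv : B v v' = 0 := iso_fix h huN hu2 hru huv huv'
  have hli : ∀ a c : F, a • v + c • v' = 0 → a = 0 ∧ c = 0 := by
    intro a c hac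
    by_cases hc : c = 0
    · rw [hc, zero_smul, add_zero] at hac
      exact ⟨(smul_eq_zero.1 hac).resolve_right hv0, hc⟩
    · exfalso
      apply hi2 (-(c⁻¹ * a))
      have h6 : v' = c⁻¹ • (c • v') := by rw [smul_smul, inv_mul_cancel₀ hc, one_smul]
      have h7 : c • v' = -(a • v) := (neg_eq_of_add_eq_zero_right hac).symm
      rw [h6, h7, smul_neg, smul_smul, neg_smul]
  have hspan : ∀ z : V, x i0 • z = z → ∃ a c : F, a • v + c • v' = z := fun z hz =>
    span_pair hk2 ((mem_ker_nu h huN).2 huv) ((mem_ker_nu h huN).2 huv') hli ((mem_ker_nu h huN).2 hz)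
  obtain ⟨w, hvw, hv'w⟩ := exists_dual2 h hv'0 hi1
  obtain ⟨w', hv'w', hvw'⟩ := exists_dual2 h hv0 hi2
  have huU : x i0 ∈ UE N V (x i0) := ⟨huN, fun z hz => hz⟩
  have hM : ∀ j, j ≠ i0 → j ≠ i1 → ∀ g ∈ UE N V (x i0), g * x j = x j * g → ∃ μ, IsM B v v' g 0 0 μ :=
    fun j hj hj' g hg hgj => UE_isM h huN hu2 hg (UE_form h huN hu2 (hlin j hj') (hfpf j hj hj') hg hgj) hspan hvw hvw'
      hv'w hv'w'
  obtain ⟨μ, hμ⟩ := hM j0 hj0 hj1 _ huU (hx.comm _ _)
  have hμ0 : μ ≠ 0 := by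
    rintro rfl
    apply hx.ne i0
    apply h.ext
    intro z
    rw [hμ z]; simp
  have hμ' : ∀ z, x i0 • z + z = μ • (B z v' • v + B z v • v') := by
    intro z
    rw [hμ z]
    have : z + (0 * B z v + μ * B z v') • v + (0 * B z v' + μ * B z v) • v' + z =
      (2 : F) • z + μ • (B z v' • v + B z v • v') := by module
    rw [this, h.two, zero_smul, zero_add]
  have hcen : ∀ {g : G} {m : F}, IsM B v v' g 0 0 m → ∀ z : V, g • z = z + (m / μ) • (x i0 • z + z) := by
    intro g m hg z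
    rw [hμ', smul_smul, div_mul_cancel₀ _ hμ0, hg z]
    module
  obtain ⟨k, hk⟩ := hσ
  have hm : k + σ k ≠ 0 := by
    intro h3
    apply hk
    have h4 := eq_neg_of_add_eq_zero_left h3
    rw [h.neg] at h4
    exact h4.symm
  have m1 : ∀ a : F, IsM B v v' (h.tr v a) a 0 0 := fun a z => by rw [h.tr_apply]; simp
  have m2 : ∀ a : F, IsM B v v' (h.tr v' a) 0 a 0 := fun a z => by rw [h.tr_apply]; simp
  have n1 : ∀ a : F, h.tr v a ∈ UE N V (x i0) := fun a => ⟨h.tr_mem _ _, fun z hz => by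
    rw [h.tr_apply, iso_fix h huN hu2 hru hz huv]; simp⟩
  have n2 : ∀ a : F, h.tr v' a ∈ UE N V (x i0) := fun a => ⟨h.tr_mem _ _, fun z hz => by
    rw [h.tr_apply, iso_fix h huN hu2 hru hz huv']; simp⟩
  have ht1 : h.tr v (k + σ k) * x j0 * (h.tr v (k + σ k))⁻¹ * (x j0)⁻¹ = h.tr v (k + σ k) * h.tr v' (k + σ k) := by
    have h1 := conj_tr_lin h hsN v (k + σ k)
    rw [← hv'] at h1
    rw [h.tr_inv, ← h1]; group
  have ht2 : h.tr v (k + σ k) * h.tr v' (k + σ k) =
      (h.tr v k * x i1 * (h.tr v k)⁻¹ * (x i1)⁻¹) * (h.tr v' k * x i1 * (h.tr v' k)⁻¹ * (x i1)⁻¹) := by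
    rw [tr_comm h d.semi d.form hyv, tr_comm h d.semi d.form hyv']
    have e1 := (m1 (k + σ k)).mul h hvv (h.tr_mem _ _) (m2 (k + σ k))
    have e2 := ((m1 k).mul h hvv (h.tr_mem _ _) (m1 (σ k))).mul h hvv (N.mul_mem (h.tr_mem _ _) (h.tr_mem _ _))
      ((m2 k).mul h hvv (h.tr_mem _ _) (m2 (σ k)))
    simp only [add_zero, zero_add] at e1 e2
    exact e1.eq h e2
  have htM : IsM B v v' (h.tr v (k + σ k) * x j0 * (h.tr v (k + σ k))⁻¹ * (x j0)⁻¹) (k + σ k) (k + σ k) 0 := by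
    rw [ht1]
    have e1 := (m1 (k + σ k)).mul h hvv (h.tr_mem _ _) (m2 (k + σ k))
    simp only [add_zero, zero_add] at e1
    exact e1
  have htN : h.tr v (k + σ k) * x j0 * (h.tr v (k + σ k))⁻¹ * (x j0)⁻¹ ∈ N := by
    rw [ht1]; exact N.mul_mem (h.tr_mem _ _) (h.tr_mem _ _)
  have hmem : ∀ j, ∀ g ∈ UE N V (x i0), x j * g * (x j)⁻¹ ∈ UE N V (x i0) := by
    intro j g hg
    refine ⟨hE.norm.conj_mem g hg.1 (x j), fun z hz => ?_⟩
    have h1 : x i0 • (x j)⁻¹ • z = (x j)⁻¹ • z := by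
      rw [eq_inv_smul_iff, ← mul_smul, ← hx.comm, mul_smul, smul_inv_smul, hz]
    rw [mul_smul, mul_smul, hg.2 _ h1, smul_inv_smul]
  have hU2 : ∀ u ∈ UE N V (x i0), u * u = 1 := fun g hg => UE_sq h huN hu2 hg
  have hab : ∀ u ∈ UE N V (x i0), ∀ v ∈ UE N V (x i0), u * v = v * u := by
    intro u hu v hv
    have h1 := hU2 _ ((UE N V (x i0)).mul_mem hu hv)
    have h4 : u⁻¹ = u := inv_eq_of_mul_eq_one_left (hU2 _ hu)
    have h5 : v⁻¹ = v := inv_eq_of_mul_eq_one_left (hU2 _ hv)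
    have h6 : (u * v)⁻¹ = u * v := inv_eq_of_mul_eq_one_left h1
    rw [mul_inv_rev, h4, h5] at h6
    exact h6.symm
  have hcop : ∀ j, j ≠ i0 → (r j).Coprime (Nat.card (UE N V (x i0))) := fun j hj =>
    coprime_of_sq hU2 (hx.prime j) fun h1 => by have := hodd j hj; omega
  refine two_rule_all hE hx hcov hi (U := UE N V (x i0)) hU2 huU hmem
    (t := h.tr v (k + σ k) * x j0 * (h.tr v (k + σ k))⁻¹ * (x j0)⁻¹) (fun j hj => ?_) ?_
  · by_cases hji : j = i1
    · rw [ht1, ht2, hji]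
      exact (cmm _ _).mul_mem (mem_cmm (n1 k)) (mem_cmm (n2 k))
    · refine common hab (hx.pow j0) (hcop j0 hj0) (hx.comm j0 j) (hmem _) (hmem _) (fun g hg hgi => ?_) (n1 _)
      obtain ⟨m, hm'⟩ := hM j hj hji g hg hgi
      apply h.ext
      intro z
      have h3 : x i0 • x j0 • z = x j0 • x i0 • z := by rw [← mul_smul, hx.comm, mul_smul]
      rw [mul_smul, mul_smul, hcen hm', hcen hm' z, smul_add (x j0) z, h.lin hsN, smul_add (x j0), h3]
  · exact fin2 hq h hvv hvw hvw' hv'w hv'w' hμ htN htM hm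

end geo

section fin

/-- an automorphism fixing the fixed field of `σ` is a power of `σ` -/
theorem zpowers_of_fix {F : Type*} [Field F] [Finite F] (σ σ' : F ≃+* F) (h : ∀ a, σ a = a → σ' a = a) :
    σ' ∈ Subgroup.zpowers σ := by
  classical
  let Gm := Subgroup.zpowers σ
  have : Finite (F ≃+* F) := Finite.of_injective (fun e : F ≃+* F => (e : F → F)) DFunLike.coe_injective
  have : Fintype Gm := Fintype.ofFinite _
  let τ : F ≃ₐ[FixedPoints.subfield Gm F] F :=
    { σ' with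
      commutes' := fun c => h c (c.2 ⟨σ, Subgroup.mem_zpowers σ⟩) }
  obtain ⟨g, hg⟩ := (FixedPoints.toAlgAutMulEquiv Gm F).surjective τ
  have : (g : F ≃+* F) = σ' := by
    ext a
    have := DFunLike.congr_fun hg a
    exact this
  rw [← this]
  exact g.2

theorem pow_semi {F V G : Type*} [Field F] [AddCommGroup V] [Module F V] [Group G] [DistribMulAction G V] {x : G}
    {σ : F ≃+* F} (h1 : ∀ (a : F) (v : V), x • a • v = σ a • x • v) (n : ℕ) (a : F) (v : V) :
    x ^ n • a • v = (σ ^ n) a • x ^ n • v := by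
  induction n generalizing a v with
  | zero => simp
  | succ n ih => rw [pow_succ, mul_smul, h1, ih, mul_smul, pow_succ]; rfl

theorem pow_eq_one_semi {F V G : Type*} [Field F] [AddCommGroup V] [Module F V] [Nontrivial V] [Group G]
    [DistribMulAction G V] {x : G} {σ : F ≃+* F} (h1 : ∀ (a : F) (v : V), x • a • v = σ a • x • v) {n : ℕ}
    (hx : x ^ n = 1) : σ ^ n = 1 := by
  obtain ⟨v, hv⟩ := exists_ne (0 : V)
  ext a
  have h2 := pow_semi h1 n a v
  rw [hx, one_smul, one_smul] at h2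
  exact (smul_left_injective F hv h2).symm

/-- **`Sp₄(2^p)`, a field automorphism with fixed field of order two** -/
theorem m2f_two {F V G Ω S : Type} [Field F] [Finite F] [AddCommGroup V] [Module F V] [FiniteDimensional F V] [Group G]
    [Finite G] [DistribMulAction G V] {B : LinearMap.BilinForm F V} {N : Subgroup G} (h : Ev B N) [MulAction G Ω]
    [Nonempty Ω] (hE : Env G Ω N) [Group S] [Finite S] (hIH : IH (Nat.card S)) (eS : N ≃* S) {ι : Type} [Finite ι]
    {x : ι → G} {r : ι → ℕ} (hx : PF x r) (hcov : Cov Ω x) (hdim : finrank F V = 4) (i : ι) (hi : x i ∉ N)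
    (hfix : ∀ c : F, (∀ v : V, x i • c • v = c • x i • v) → c = 0 ∨ c = 1) : False := by
  have hnt : Nontrivial V := nontrivial_of_finrank_pos (R := F) (by rw [hdim]; norm_num)
  obtain ⟨σ, h1, h2⟩ := h.semi (x i)
  have hσ : ∃ k, σ k ≠ k := by
    by_contra hcon
    push Not at hcon
    apply hi
    rw [h.mem]
    intro a v
    rw [h1, hcon]
  have hσ1 : σ ≠ 1 := by
    rintro rfl
    obtain ⟨k, hk⟩ := hσ
    exact hk rfl
  have hord : orderOf σ = r i := by
    have := Fact.mk (hx.prime i)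
    exact orderOf_eq_prime (pow_eq_one_semi h1 (hx.pow i)) hσ1
  have hq : 2 < Nat.card F := by
    obtain ⟨k, hk⟩ := hσ
    by_contra hcon
    have h3 : ({0, 1, k} : Set F).ncard ≤ Nat.card F := by
      rw [← Set.ncard_univ]
      exact Set.ncard_le_ncard (Set.subset_univ _) (Set.toFinite _)
    have h4 : ({0, 1, k} : Set F).ncard = 3 := by
      rw [Set.ncard_eq_three]
      refine ⟨0, 1, k, zero_ne_one, ?_, ?_, rfl⟩
      · rintro rfl; exact hk (map_zero σ)
      · rintro rfl; exact hk (map_one σ)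
    omega
  have hdesc := descent_one σ (r i) (hx.prime i).pos hord (fun v : V => x i • v) (fun v w => smul_add _ _ _) h1
    (fun v => by rw [smul_iterate]; show x i ^ r i • v = v; rw [hx.pow, one_smul])
  rw [hdim] at hdesc
  obtain ⟨b, hb⟩ := hdesc
  have d : D0 B N (x i) σ b := ⟨h, h1, h2, fun a ha => hfix a fun v => by rw [h1, ha], hb⟩
  have hlin : ∀ j, j ≠ i → x j ∈ N := by
    intro j hj
    obtain ⟨τ, h3, h4⟩ := h.semi (x j)
    have h5 : τ ∈ Subgroup.zpowers σ := zpowers_of_fix σ τ fun a ha => by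
      rcases d.fix a ha with rfl | rfl
      · exact map_zero τ
      · exact map_one τ
    have h6 : orderOf τ ∣ r i := by
      rw [← hord, ← Nat.card_zpowers σ]
      exact Subgroup.orderOf_dvd_natCard _ h5
    have h7 : orderOf τ ∣ r j := orderOf_dvd_of_pow_eq_one (pow_eq_one_semi h3 (hx.pow j))
    have h8 : (r i).Coprime (r j) := (Nat.coprime_primes (hx.prime i) (hx.prime j)).2 fun h9 => hj (hx.inj h9).symm
    have h9 : τ = 1 := orderOf_eq_one_iff.1 (Nat.eq_one_of_dvd_coprimes h8 h6 h7)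
    rw [h.mem]
    intro a v
    rw [h3, h9]
    rfl
  -- involution and an odd element
  have hinv : ∀ i0 j0 : ι, r i0 = 2 → i0 ≠ i → j0 ≠ i0 → j0 ≠ i → False := by
    intro i0 j0 hi0 h01 hj0 hj1
    have hu2 : x i0 * x i0 = 1 := by
      have := hx.pow i0
      rwa [hi0, pow_two] at this
    have hle : LinearMap.range (nu h (hlin i0 h01)) ≤ LinearMap.ker (nu h (hlin i0 h01)) := by
      rintro _ ⟨z, rfl⟩
      rw [mem_ker_nu, nu_apply]
      exact nu_nu h hu2 z
    have h3 := LinearMap.finrank_range_add_finrank_ker (nu h (hlin i0 h01))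
    have h4 := Submodule.finrank_mono hle
    have h5 : finrank F (LinearMap.range (nu h (hlin i0 h01))) ≠ 0 := by
      intro h4
      rw [Submodule.finrank_eq_zero] at h4
      apply hx.ne i0
      apply h.inj
      intro z
      have h5 : nu h (hlin i0 h01) z ∈ LinearMap.range (nu h (hlin i0 h01)) := ⟨z, rfl⟩
      rw [h4, Submodule.mem_bot] at h5
      exact (mem_ker_nu h (hlin i0 h01)).1 (LinearMap.mem_ker.2 h5)
    have h6 : finrank F (LinearMap.range (nu h (hlin i0 h01))) = 1 ∨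
        finrank F (LinearMap.range (nu h (hlin i0 h01))) = 2 := by omega
    rcases h6 with h6 | h6
    · obtain ⟨e, c, he, hc, hu⟩ := type1 h (hlin i0 h01) hu2 h6
      exact inv1 hE hx hcov hdim hq d hσ hi0 h01 hj0 hj1 hlin he hc hu
    · have h7 : finrank F (LinearMap.ker (nu h (hlin i0 h01))) = 2 := by omega
      have h8 := Submodule.eq_of_le_of_finrank_eq hle (h6.trans h7.symm)
      refine inv2 hE hx hcov hdim hq d hσ hi0 h01 hj0 hj1 hlin hu2 (fun z hz => ?_) h7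
      have h9 := (mem_ker_nu h (hlin i0 h01)).2 hz
      rw [← h8] at h9
      obtain ⟨y, hy⟩ := h9
      exact ⟨y, hy⟩
  by_cases hj : ∃ j0, j0 ≠ i
  swap
  · push Not at hj
    refine hE.not_all (hx.ne i) fun ω => ?_
    obtain ⟨j, hj'⟩ := hcov ω
    rw [hj j] at hj'
    exact hj'
  obtain ⟨j0, hj0⟩ := hj
  by_cases hj2 : ∃ j1, j1 ≠ i ∧ j1 ≠ j0
  swap
  · push Not at hj2
    refine one_other d hσ hE (hlin j0 hj0) (hx.ne j0) (hx.comm _ _) fun ω => ?_
    obtain ⟨j, hj'⟩ := hcov ω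
    by_cases h3 : j = i
    · left; rw [← h3]; exact hj'
    · right; rw [hj2 j h3] at hj'; exact hj'
  obtain ⟨j1, hj1, hj10⟩ := hj2
  by_cases h3 : r j0 = 2
  · exact hinv j0 j1 h3 hj0 hj10 hj1
  by_cases h4 : r j1 = 2
  · exact hinv j1 j0 h4 hj1 hj10.symm hj0
  exact d.no_two_odd (hlin j0 hj0) (hlin j1 hj1) (hx.prime j0) (hx.prime j1) h3 h4 (fun h5 => hj10 (hx.inj h5).symm)
    (hx.pow _) (hx.pow _) (hx.ne _) (hx.ne _) (hx.comm _ _) (hx.comm _ _) (hx.comm _ _)

end fin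

end Cfsg.Agent.H547.RC
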